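import Cfsg.Agent.H684.OQ.HRepDef

/-!
# S4884, own odd characteristic: the dual operators (helper40)

* `dual` (A2) : the dual operators `(-1)^{ℓ(w)} q_w⁻¹ S(g⁻¹)⁻¹` satisfy the same relations.
-/

set_option autoImplicit false
set_option linter.unusedSectionVars false

open Cfsg

namespace Cfsg.Agent.H40.OQ

open CoxeterSystem Cfsg.Agent.ChevalleyStructure.CoxeterGeom Cfsg.Agent.Tits.Roots Cfsg.Agent.Tits.Core
  Cfsg.Agent.Tits.Exchange Cfsg.Agent.Nodes.Reps Cfsg.Agent.Nodes.BNOf Cfsg.Agent.Nodes.StabComb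
  Cfsg.Agent.Nodes.Bruhat Cfsg.Agent.Nodes.OppDec Cfsg.Agent.Nodes.LeviDec
open Cfsg.Agent.H684.OQ

universe u v

variable {I W : Type*} {Y : Type u} [Fintype I] [DecidableEq I] [Group W] [Finite W] [Group Y] [Finite Y]
  {M : CoxeterMatrix I} {cs : CoxeterSystem M W} {A : I → I → ℤ} {h : IsCartan M A} {p : ℕ} {T : Subgroup Y}
  {n : I → Y} {X : (I → ℤ) → Subgroup Y} (R : RGD cs h p T n X)
  {E : Type v} [AddCommGroup E] [Module ℂ E]

include R

theorem rp_inj {v w : W} {g : Y} (hv : Rp cs R.nsys v g) (hw : Rp cs R.nsys w g) : v = w :=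
  Cell.unique R (cell_of_rp hv) (cell_of_rp hw)

/-- the value of the dual operator -/
theorem dualS_eq {S : Y → Module.End ℂ E} {w : W} {g : Y} (hg : Rp cs R.nsys w g) :
    dualS R S g = ((-1 : ℂ) ^ cs.length w * (qc R w)⁻¹) • Ring.inverse (S g⁻¹) := by
  classical
  have hex : ∃ w, Rp cs R.nsys w g := ⟨w, hg⟩
  unfold dualS
  rw [dif_pos hex]
  have e := rp_inj R hex.choose_spec hg
  rw [e]

theorem S_t_isUnit {S : Y → Module.End ℂ E} (H : HRep R S) {t : Y} (ht : t ∈ T) :
    S t * S t⁻¹ = 1 ∧ S t⁻¹ * S t = 1 := by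
  have h1 := H.mul (rp_of_mem (cs := cs) (hN := R.nsys) ht) (rp_of_mem (cs := cs) (hN := R.nsys) (inv_mem ht))
    (by rw [one_mul, cs.length_one])
  have h2 := H.mul (rp_of_mem (cs := cs) (hN := R.nsys) (inv_mem ht)) (rp_of_mem (cs := cs) (hN := R.nsys) ht)
    (by rw [one_mul, cs.length_one])
  rw [mul_inv_cancel, H.one] at h1
  rw [inv_mul_cancel, H.one] at h2
  exact ⟨h1.symm, h2.symm⟩

omit R [Finite W] [Finite Y] [Fintype I] [DecidableEq I] in
theorem inverse_eq {a b : Module.End ℂ E} (h1 : a * b = 1) (h2 : b * a = 1) : Ring.inverse a = b := by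
  have : (⟨a, b, h1, h2⟩ : (Module.End ℂ E)ˣ).1 = a := rfl
  rw [← this, Ring.inverse_unit]
  rfl

omit R [Finite W] [Finite Y] [Fintype I] [DecidableEq I] in
theorem inverse_mul {a b : Module.End ℂ E} (ha : IsUnit a) (hb : IsUnit b) :
    Ring.inverse (a * b) = Ring.inverse b * Ring.inverse a := by
  obtain ⟨a, rfl⟩ := ha
  obtain ⟨b, rfl⟩ := hb
  rw [← Units.val_mul, Ring.inverse_unit, Ring.inverse_unit, Ring.inverse_unit, mul_inv_rev, Units.val_mul]

open Classical in
/-- the quadratic relation with the sum of the torus operators -/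
theorem quad_sum {S : Y → Module.End ℂ E} (H : HRep R S) (i : I) [Fintype (X (sr i))] :
    S (n i) * S (n i) = (Nat.card (X (sr i)) : ℂ)⁻¹ • ((1 + (∑ x : X (sr i), if x = 1 then 0 else S (tx R i x)) * S (n i))
      * S (n i * n i)) := by
  rw [H.quad i]
  congr 1
  have h1 : ∀ x : X (sr i), (if x = 1 then S (n i * n i) else S (tx R i x) * S (n i) * S (n i * n i)) =
      (if x = 1 then S (n i * n i) else 0) + (if x = 1 then 0 else S (tx R i x)) * S (n i) * S (n i * n i) := by
    intro x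
    split_ifs
    · rw [zero_mul, zero_mul, add_zero]
    · rw [zero_add]
  rw [Finset.sum_congr rfl fun x _ => h1 x, Finset.sum_add_distrib, Finset.sum_ite_eq' Finset.univ 1,
    if_pos (Finset.mem_univ _), add_mul, one_mul, Finset.sum_mul, Finset.sum_mul]

theorem zz_comm {S : Y → Module.End ℂ E} (H : HRep R S) (i : I) :
    S (n i) * S (n i * n i) = S (n i * n i) * S (n i) := by
  have hni := rp_simple cs R.nsys i
  have hz := R.sq_mem_T i
  have hzr := rp_of_mem (cs := cs) (hN := R.nsys) hz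
  have h1 := H.mul hni hzr (by rw [mul_one, cs.length_one, add_zero])
  have h2 := H.mul hzr hni (by rw [one_mul, cs.length_one, zero_add])
  rw [← h1, ← h2, mul_assoc]

/-- `S n_i` is invertible -/
theorem n_isUnit [FiniteDimensional ℂ E] {S : Y → Module.End ℂ E} (H : HRep R S) (i : I) : IsUnit (S (n i)) := by
  classical
  let _ := Fintype.ofFinite ↥(X (sr i))
  have hz := R.sq_mem_T i
  obtain ⟨z1, z2⟩ := S_t_isUnit R H hz
  have hc := zz_comm R H i
  have hq := quad_sum R H i
  set a := S (n i) with ha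
  set z := S (n i * n i) with hzdef
  set z' := S (n i * n i)⁻¹ with hz'
  set Z := ∑ x : X (sr i), if x = 1 then (0 : Module.End ℂ E) else S (tx R i x) with hZ
  have hq0 : (Nat.card (X (sr i)) : ℂ) ≠ 0 := card_ne _
  have hc' : a * z' = z' * a := by
    calc a * z' = (z' * z) * (a * z') := by rw [z2, one_mul]
      _ = z' * (z * a) * z' := by simp only [mul_assoc]
      _ = z' * a * (z * z') := by rw [← hc]; simp only [mul_assoc]
      _ = z' * a := by rw [z1, mul_one]
  have h1 : ((Nat.card (X (sr i)) : ℂ) • (a * z') - Z) * a = 1 := by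
    have h2 : a * a * z' = (Nat.card (X (sr i)) : ℂ)⁻¹ • (1 + Z * a) := by
      rw [hq, smul_mul_assoc, mul_assoc _ z z', z1, mul_one]
    rw [sub_mul, smul_mul_assoc, mul_assoc a z' a, ← hc', ← mul_assoc, h2, smul_smul, mul_inv_cancel₀ hq0, one_smul,
      add_sub_cancel_right]
  have h3 := _root_.mul_eq_one_comm.1 h1
  exact ⟨⟨a, _, h3, h1⟩, rfl⟩

/-- `S g` is invertible -/
theorem S_isUnit [FiniteDimensional ℂ E] {S : Y → Module.End ℂ E} (H : HRep R S) : ∀ (w : W) (g : Y),
    Rp cs R.nsys w g → IsUnit (S g) := by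
  intro w
  induction hl : cs.length w generalizing w with
  | zero =>
    intro g hg
    have h1 : w = 1 := cs.length_eq_zero_iff.1 hl
    subst h1
    obtain ⟨z1, z2⟩ := S_t_isUnit R H hg.mem_of_one
    exact ⟨⟨_, _, z1, z2⟩, rfl⟩
  | succ N ih =>
    intro g hg
    obtain ⟨i, hi⟩ := cs.exists_rightDescent_of_ne_one (w := w) (fun h1 => by
      rw [h1, cs.length_one] at hl
      exact absurd hl (Nat.succ_ne_zero N).symm)
    have hi' := cs.isRightDescent_iff.1 hi
    have hni := rp_simple cs R.nsys i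
    set w' := w * cs.simple i with hw'
    have hww : w = w' * cs.simple i := by rw [hw', mul_assoc, cs.simple_mul_simple_self, mul_one]
    have hl' : cs.length w' = N := by omega
    have hg' : Rp cs R.nsys w' (g * (n i)⁻¹) := by
      have := hg.mul hni.inv
      rwa [cs.inv_simple] at this
    have hlen : cs.length (w' * cs.simple i) = cs.length w' + cs.length (cs.simple i) := by
      rw [← hww, cs.length_simple]; omega
    have e1 : S g = S (g * (n i)⁻¹) * S (n i) := by
      rw [← H.mul hg' hni hlen, inv_mul_cancel_right]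
    rw [e1]
    exact (ih w' hl' _ hg').mul (n_isUnit R H i)

/-- `S(n_i⁻¹) = S(n_i²)⁻¹ S(n_i)` -/
theorem S_n_inv {S : Y → Module.End ℂ E} (H : HRep R S) (i : I) : S (n i)⁻¹ = S (n i * n i)⁻¹ * S (n i) := by
  have hni := rp_simple cs R.nsys i
  have hz := rp_of_mem (cs := cs) (hN := R.nsys) (inv_mem (R.sq_mem_T i))
  rw [← H.mul hz hni (by rw [one_mul, cs.length_one, zero_add])]
  congr 1
  group

/-- **(A2)** the dual operators -/
theorem dual [FiniteDimensional ℂ E] (_hc : ∀ a ∈ T, ∀ b ∈ T, a * b = b * a) {S : Y → Module.End ℂ E}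
    (H : HRep R S) : HRep R (dualS R S) ∧ (∀ t ∈ T, dualS R S t = S t) ∧
    (∀ (w : W) (g : Y), Rp cs R.nsys w g → IsUnit (S g) ∧
      dualS R S g = ((-1 : ℂ) ^ cs.length w * (qc R w)⁻¹) • Ring.inverse (S g⁻¹)) ∧
    (∀ i, IsUnit (S (n i)⁻¹ * S (n i)) ∧ dualS R S (n i)⁻¹ * dualS R S (n i) =
      ((Nat.card (X (sr i)) : ℂ)⁻¹ * (Nat.card (X (sr i)) : ℂ)⁻¹) • Ring.inverse (S (n i)⁻¹ * S (n i))) := by
  classical
  have hT : ∀ t ∈ T, dualS R S t = S t := by
    intro t ht
    obtain ⟨z1, z2⟩ := S_t_isUnit R H ht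
    rw [dualS_eq R (rp_of_mem (cs := cs) (hN := R.nsys) ht), cs.length_one, pow_zero, qc_one, inv_one, one_mul,
      one_smul, inverse_eq z2 z1]
  have hinvn : ∀ i, Rp cs R.nsys (cs.simple i) (n i)⁻¹ := fun i => by
    have := (rp_simple cs R.nsys i).inv
    rwa [cs.inv_simple] at this
  have hdn : ∀ i, dualS R S (n i) = (-(Nat.card (X (sr i)) : ℂ)⁻¹) • Ring.inverse (S (n i)⁻¹) := fun i => by
    rw [dualS_eq R (rp_simple cs R.nsys i), cs.length_simple, pow_one, qc_simple, neg_one_mul]
  refine ⟨⟨?_, ?_, ?_⟩, hT, fun w g hg => ⟨S_isUnit R H w g hg, dualS_eq R hg⟩, fun i => ⟨?_, ?_⟩⟩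
  · rw [hT 1 (one_mem _), H.one]
  · intro v w g k hg hk hlen
    have hlen2 : cs.length (w⁻¹ * v⁻¹) = cs.length w⁻¹ + cs.length v⁻¹ := by
      rw [← mul_inv_rev, cs.length_inv, cs.length_inv, cs.length_inv, hlen, add_comm]
    rw [dualS_eq R (hg.mul hk), dualS_eq R hg, dualS_eq R hk, mul_inv_rev, H.mul hk.inv hg.inv hlen2,
      inverse_mul (S_isUnit R H _ _ hk.inv) (S_isUnit R H _ _ hg.inv), hlen, qc_mul R hlen, smul_mul_smul_comm]
    congr 1
    rw [pow_add, mul_inv]
    ring
  · intro i _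
    have hz := R.sq_mem_T i
    obtain ⟨z1, z2⟩ := S_t_isUnit R H hz
    have hc := zz_comm R H i
    have hq := quad_sum R H i
    have hq0 : (Nat.card (X (sr i)) : ℂ) ≠ 0 := card_ne _
    have hsum : (∑ x : X (sr i), if x = 1 then dualS R S (n i * n i) else
        dualS R S (tx R i x) * dualS R S (n i) * dualS R S (n i * n i)) =
        (1 + (∑ x : X (sr i), if x = 1 then 0 else S (tx R i x)) * dualS R S (n i)) * S (n i * n i) := by
      have h1 : ∀ x : X (sr i), (if x = 1 then dualS R S (n i * n i) else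
          dualS R S (tx R i x) * dualS R S (n i) * dualS R S (n i * n i)) =
          (if x = 1 then S (n i * n i) else 0) +
            (if x = 1 then 0 else S (tx R i x)) * dualS R S (n i) * S (n i * n i) := by
        intro x
        split_ifs
        · rw [zero_mul, zero_mul, add_zero, hT _ hz]
        · rw [zero_add, hT _ hz, hT _ (tx_mem R i x)]
      rw [Finset.sum_congr rfl fun x _ => h1 x, Finset.sum_add_distrib, Finset.sum_ite_eq' Finset.univ 1,
        if_pos (Finset.mem_univ _), add_mul, one_mul, Finset.sum_mul, Finset.sum_mul]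
    rw [hsum, hdn i, S_n_inv R H i, inverse_mul (S_isUnit R H 1 _ (rp_of_mem (inv_mem hz))) (n_isUnit R H i),
      inverse_eq z2 z1]
    obtain ⟨a, ha⟩ := n_isUnit R H i
    rw [← ha, Ring.inverse_unit]
    rw [← ha] at hc hq
    set b : Module.End ℂ E := (a⁻¹ : (Module.End ℂ E)ˣ).1 with hb
    set z := S (n i * n i) with hzdef
    set z' := S (n i * n i)⁻¹ with hz'
    set Z := ∑ x : X (sr i), if x = 1 then (0 : Module.End ℂ E) else S (tx R i x) with hZ
    have hab : (a : Module.End ℂ E) * b = 1 := a.mul_inv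
    have hba : b * (a : Module.End ℂ E) = 1 := a.inv_mul
    have hcb : b * z = z * b := by
      calc b * z = b * z * (a * b) := by rw [hab, mul_one]
        _ = b * (z * a) * b := by simp only [mul_assoc]
        _ = (b * a) * z * b := by rw [← hc]; simp only [mul_assoc]
        _ = z * b := by rw [hba, one_mul]
    -- `q = (1 + Z a) z b b`
    have h4 : (Nat.card (X (sr i)) : ℂ) • (1 : Module.End ℂ E) = (z * (b * b)) + Z * b * z := by
      have h5 : (a : Module.End ℂ E) * a * (b * b) = 1 := by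
        rw [mul_assoc, ← mul_assoc (a : Module.End ℂ E) b b, hab, one_mul, hab]
      calc (Nat.card (X (sr i)) : ℂ) • (1 : Module.End ℂ E)
          = (Nat.card (X (sr i)) : ℂ) • ((a : Module.End ℂ E) * a * (b * b)) := by rw [h5]
        _ = (1 + Z * a) * z * (b * b) := by
            rw [hq, smul_mul_assoc, smul_smul, mul_inv_cancel₀ hq0, one_smul]
        _ = z * (b * b) + Z * ((a * z) * (b * b)) := by rw [add_mul, add_mul, one_mul]; simp only [mul_assoc]
        _ = z * (b * b) + Z * (z * ((a * b) * b)) := by rw [hc]; simp only [mul_assoc]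
        _ = z * (b * b) + Z * b * z := by rw [hab, one_mul, ← hcb, mul_assoc]
    have h6 : b * z * (b * z) = (z * (b * b)) * z := by
      rw [hcb]; simp only [mul_assoc]; rw [hcb]
    have h7 : (z * (b * b)) = (Nat.card (X (sr i)) : ℂ) • (1 : Module.End ℂ E) - Z * b * z := by
      rw [h4, add_sub_cancel_right]
    rw [smul_mul_smul_comm, h6, h7, sub_mul, smul_mul_assoc, one_mul, smul_sub, smul_smul, add_mul, one_mul, smul_add,
      mul_smul_comm, smul_mul_assoc, smul_smul, sub_eq_add_neg, ← neg_smul]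
    congr 1
    · congr 1
      field_simp
    · rw [mul_assoc Z b z]
      congr 1
      ring
  · exact (S_isUnit R H _ _ (hinvn i)).mul (n_isUnit R H i)
  · rw [dualS_eq R (hinvn i), dualS_eq R (rp_simple cs R.nsys i), inv_inv, cs.length_simple, pow_one, qc_simple,
      smul_mul_smul_comm, inverse_mul (S_isUnit R H _ _ (hinvn i)) (n_isUnit R H i)]
    congr 1
    ring

end Cfsg.Agent.H40.OQ
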