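import Cfsg.Agent.H684.OQ.HRepDef

/-!
# S4884, own odd characteristic: representations of `e_U ℂG e_U` from generators and relations (helper40)

* `exists_nf`, `nf_unique` : `y ∈ U g U` for a unique `g ∈ N`;
* `exists_L` : operators satisfying `HRep` give a multiplicative linear map on `e_U ℂG e_U`.
-/

set_option autoImplicit false
set_option linter.unusedSectionVars false

open Cfsg

namespace Cfsg.Agent.H40.OQ

open CoxeterSystem Cfsg.Agent.ChevalleyStructure.CoxeterGeom Cfsg.Agent.Tits.Roots Cfsg.Agent.Tits.Core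
  Cfsg.Agent.Tits.Exchange Cfsg.Agent.Nodes.Reps Cfsg.Agent.Nodes.BNOf Cfsg.Agent.Nodes.StabComb
  Cfsg.Agent.Nodes.Bruhat Cfsg.Agent.Nodes.OppDec Cfsg.Agent.Nodes.LeviDec
open Cfsg.Agent.H684.OQ

universe u v

variable {I W : Type*} {Y : Type u} [Fintype I] [DecidableEq I] [Group W] [Finite W] [Group Y] [Finite Y]
  {M : CoxeterMatrix I} {cs : CoxeterSystem M W} {A : I → I → ℤ} {h : IsCartan M A} {p : ℕ} {T : Subgroup Y}
  {n : I → Y} {X : (I → ℤ) → Subgroup Y} (R : RGD cs h p T n X)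
  {E : Type v} [AddCommGroup E] [Module ℂ E]

include R

/-- `Y = U N U` -/
theorem exists_nf (hG : GG cs h T X = ⊤) (y : Y) : ∃ g : Y, (∃ w, Rp cs R.nsys w g) ∧
    ∃ u ∈ UU cs h X, ∃ u' ∈ UU cs h X, y = u * g * u' := by
  obtain ⟨w, b₁, hb₁, k, hk, b₂, hb₂, e⟩ := (mem_GG R).1 (hG ▸ Subgroup.mem_top y)
  obtain ⟨t₁, ht₁, u₁, hu₁, e₁⟩ := R.mem_B.1 (inv_mem hb₁)
  obtain ⟨t₂, ht₂, u₂, hu₂, e₂⟩ := R.mem_B.1 hb₂
  have e₁' : b₁ = u₁⁻¹ * t₁⁻¹ := by rw [← inv_inv b₁, e₁]; group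
  refine ⟨t₁⁻¹ * k * t₂, ⟨w, ?_⟩, u₁⁻¹, inv_mem hu₁, u₂, hu₂, ?_⟩
  · have h1 := ((rp_of_mem (cs := cs) (hN := R.nsys) (inv_mem ht₁)).mul hk).mul (rp_of_mem (cs := cs) (hN := R.nsys) ht₂)
    rwa [one_mul, mul_one] at h1
  · rw [e, e₁', e₂]
    group

/-- uniqueness of the element of `N` -/
theorem nf_unique {g k : Y} {v w : W} (hg : Rp cs R.nsys v g) (hk : Rp cs R.nsys w k) {a b c d : Y}
    (ha : a ∈ UU cs h X) (hb : b ∈ UU cs h X) (hc : c ∈ UU cs h X) (hd : d ∈ UU cs h X)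
    (e : a * g * b = c * k * d) : g = k := by
  have hvw : v = w := by
    refine Cell.unique R (g := a * g * b) ⟨a, RGD.U_le_B ha, g, hg, b, RGD.U_le_B hb, rfl⟩ ?_
    rw [e]
    exact ⟨c, RGD.U_le_B hc, k, hk, d, RGD.U_le_B hd, rfl⟩
  subst hvw
  have ht : g⁻¹ * k ∈ T := hg.unique hk
  -- `g⁻¹ (c⁻¹ a) g ∈ B`
  have h1 : g⁻¹ * (c⁻¹ * a) * g = (g⁻¹ * k) * (d * b⁻¹) := by
    have : (c⁻¹ * a) * g = k * d * b⁻¹ := by
      rw [eq_mul_inv_iff_mul_eq, mul_assoc, mul_assoc, inv_mul_eq_iff_eq_mul, ← mul_assoc, e]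
      group
    rw [mul_assoc, this]
    group
  have h2 : g⁻¹ * (c⁻¹ * a) * g ∈ RGD.B cs h T X := by
    rw [h1]
    have hdb : d * b⁻¹ ∈ UU cs h X := mul_mem hd (inv_mem hb)
    exact mul_mem (RGD.T_le_B ht) (RGD.U_le_B hdb)
  obtain ⟨m, hm⟩ := R.isPGroup_Upos ⟨c⁻¹ * a, mul_mem (inv_mem hc) ha⟩
  have hm' : (c⁻¹ * a) ^ p ^ m = 1 := congrArg Subtype.val hm
  have h3 : g⁻¹ * (c⁻¹ * a) * g ∈ UU cs h X := R.mem_U_of_mem_B h2 (k := m) (by
    have := conj_pow (i := p ^ m) (a := g⁻¹) (b := c⁻¹ * a)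
    rw [inv_inv] at this
    rw [this, hm', mul_one, inv_mul_cancel])
  have h4 : g⁻¹ * k ∈ UU cs h X ⊓ T := by
    refine ⟨?_, ht⟩
    have h5 : g⁻¹ * k = (g⁻¹ * (c⁻¹ * a) * g) * (d * b⁻¹)⁻¹ := by rw [h1]; group
    have hdb : d * b⁻¹ ∈ UU cs h X := mul_mem hd (inv_mem hb)
    change g⁻¹ * k ∈ UU cs h X
    rw [h5]
    exact mul_mem h3 (inv_mem hdb)
  rw [U_inf_T R, Subgroup.mem_bot] at h4
  exact inv_mul_eq_one.1 h4

open scoped Classical in
/-- the element of `N` -/
noncomputable def nf (y : Y) : Y :=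
  if hy : ∃ g : Y, (∃ w, Rp cs R.nsys w g) ∧ ∃ u ∈ UU cs h X, ∃ u' ∈ UU cs h X, y = u * g * u' then hy.choose else 1

theorem nf_spec (hG : GG cs h T X = ⊤) (y : Y) : (∃ w, Rp cs R.nsys w (nf R y)) ∧
    ∃ u ∈ UU cs h X, ∃ u' ∈ UU cs h X, y = u * nf R y * u' := by
  have h1 := exists_nf R hG y
  unfold nf
  rw [dif_pos h1]
  exact h1.choose_spec

theorem nf_eq (hG : GG cs h T X = ⊤) {y g u u' : Y} {w : W} (hg : Rp cs R.nsys w g) (hu : u ∈ UU cs h X)
    (hu' : u' ∈ UU cs h X) (e : y = u * g * u') : nf R y = g := by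
  obtain ⟨⟨v, hv⟩, a, ha, b, hb, e'⟩ := nf_spec R hG y
  exact nf_unique R hv hg ha hb hu hu' (e'.symm.trans e)

theorem nf_mul_left (hG : GG cs h T X = ⊤) {u : Y} (hu : u ∈ UU cs h X) (y : Y) : nf R (u * y) = nf R y := by
  obtain ⟨⟨v, hv⟩, a, ha, b, hb, e'⟩ := nf_spec R hG y
  refine nf_eq R hG hv (mul_mem hu ha) hb ?_
  conv_lhs => rw [e']
  group

theorem nf_mul_right (hG : GG cs h T X = ⊤) {u : Y} (hu : u ∈ UU cs h X) (y : Y) : nf R (y * u) = nf R y := by
  obtain ⟨⟨v, hv⟩, a, ha, b, hb, e'⟩ := nf_spec R hG y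
  refine nf_eq R hG hv ha (mul_mem hb hu) ?_
  conv_lhs => rw [e']
  group

theorem nf_rp (hG : GG cs h T X = ⊤) {g : Y} {w : W} (hg : Rp cs R.nsys w g) : nf R g = g :=
  nf_eq R hG hg (one_mem _) (one_mem _) (by group)

/-- the linear map -/
noncomputable def LL (S : Y → Module.End ℂ E) : Al Y →ₗ[ℂ] Module.End ℂ E := lin fun y => S (nf R y)

variable {S : Y → Module.End ℂ E}

theorem LL_dl (y : Y) : LL R S (dl y) = S (nf R y) := lin_dl _ _

theorem LL_rp (hG : GG cs h T X = ⊤) {g : Y} {w : W} (hg : Rp cs R.nsys w g) : LL R S (dl g) = S g := by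
  rw [LL_dl, nf_rp R hG hg]

theorem LL_u_mul (hG : GG cs h T X = ⊤) {u : Y} (hu : u ∈ UU cs h X) (a : Al Y) : LL R S (dl u * a) = LL R S a := by
  induction a using al_induction with
  | hd g => rw [← dl_mul, LL_dl, LL_dl, nf_mul_left R hG hu]
  | ha a b iha ihb => rw [mul_add, map_add, map_add, iha, ihb]
  | hs c a iha => rw [mul_smul_comm, map_smul, map_smul, iha]

theorem LL_mul_u (hG : GG cs h T X = ⊤) {u : Y} (hu : u ∈ UU cs h X) (a : Al Y) : LL R S (a * dl u) = LL R S a := by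
  induction a using al_induction with
  | hd g => rw [← dl_mul, LL_dl, LL_dl, nf_mul_right R hG hu]
  | ha a b iha ihb => rw [add_mul, map_add, map_add, iha, ihb]
  | hs c a iha => rw [smul_mul_assoc, map_smul, map_smul, iha]

theorem LL_eU_mul (hG : GG cs h T X = ⊤) (a : Al Y) : LL R S (eU cs h X * a) = LL R S a := by
  have := Fintype.ofFinite (UU cs h X)
  unfold eU
  rw [av_def, smul_mul_assoc, Finset.sum_mul, map_smul, map_sum]
  have h1 : ∀ u : UU cs h X, LL R S (((((1 : UU cs h X →* ℂˣ) u)⁻¹ : ℂˣ) : ℂ) • dl (u : Y) * a) = LL R S a := by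
    intro u
    rw [MonoidHom.one_apply, inv_one, Units.val_one, one_smul, LL_u_mul R hG u.2]
  rw [Finset.sum_congr rfl fun u _ => h1 u, Finset.sum_const, Finset.card_univ, ← Nat.card_eq_fintype_card,
    ← Nat.cast_smul_eq_nsmul ℂ, smul_smul, inv_mul_cancel₀ (card_ne _), one_smul]

theorem LL_mul_eU (hG : GG cs h T X = ⊤) (a : Al Y) : LL R S (a * eU cs h X) = LL R S a := by
  have := Fintype.ofFinite (UU cs h X)
  unfold eU
  rw [av_def, mul_smul_comm, Finset.mul_sum, map_smul, map_sum]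
  have h1 : ∀ u : UU cs h X, LL R S (a * (((((1 : UU cs h X →* ℂˣ) u)⁻¹ : ℂˣ) : ℂ) • dl (u : Y))) = LL R S a := by
    intro u
    rw [MonoidHom.one_apply, inv_one, Units.val_one, one_smul, LL_mul_u R hG u.2]
  rw [Finset.sum_congr rfl fun u _ => h1 u, Finset.sum_const, Finset.card_univ, ← Nat.card_eq_fintype_card,
    ← Nat.cast_smul_eq_nsmul ℂ, smul_smul, inv_mul_cancel₀ (card_ne _), one_smul]

theorem LL_ta (hG : GG cs h T X = ⊤) {g : Y} {w : W} (hg : Rp cs R.nsys w g) : LL R S (ta cs h X g) = S g := by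
  unfold ta
  rw [LL_mul_eU R hG, LL_eU_mul R hG, LL_rp R hG hg]

variable (H : HRep R S)

include H

/-- the torus -/
theorem LL_t (hG : GG cs h T X = ⊤) {t : Y} (ht : t ∈ T) (b : Al Y) : LL R S (ta cs h X t * b) = S t * LL R S b := by
  induction b using al_induction with
  | hd z =>
    obtain ⟨⟨w, hw⟩, u, hu, u', hu', e⟩ := nf_spec R hG z
    have h1 : ta cs h X t * dl z = eU cs h X * dl (t * z) := by
      rw [ta_t R ht, dl_t_comm_eU R ht, mul_assoc, dl_mul]
    have h2 : nf R (t * z) = t * nf R z := by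
      have hrp : Rp cs R.nsys w (t * nf R z) := by
        have := (rp_of_mem (cs := cs) (hN := R.nsys) ht).mul hw
        rwa [one_mul] at this
      refine nf_eq R hG hrp (u := t * u * t⁻¹) (u' := u')
        ((Subgroup.mem_normalizer_iff.1 (R.T_le_normalizer_U ht) u).1 hu) hu' ?_
      conv_lhs => rw [e]
      group
    rw [h1, LL_eU_mul R hG, LL_dl, LL_dl, h2]
    exact H.mul (rp_of_mem (cs := cs) (hN := R.nsys) ht) hw (by rw [one_mul, cs.length_one, zero_add])
  | ha a b iha ihb => rw [mul_add, map_add, map_add, iha, ihb, mul_add]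
  | hs c a iha => rw [mul_smul_comm, map_smul, map_smul, iha, mul_smul_comm]

/-- one reflection, a representative -/
theorem LL_n_rp (hG : GG cs h T X = ⊤) (i : I) {w : W} {k : Y} (hk : Rp cs R.nsys w k) :
    LL R S (ta cs h X (n i) * ta cs h X k) = S (n i) * S k := by
  classical
  have hi := rp_simple cs R.nsys i
  have up : ∀ {w : W} {k : Y}, Rp cs R.nsys w k → cs.length w < cs.length (cs.simple i * w) →
      LL R S (ta cs h X (n i) * ta cs h X k) = S (n i) * S k := by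
    intro w k hk hl
    have hlen : cs.length (cs.simple i * w) = cs.length (cs.simple i) + cs.length w := by
      have h1 := cs.length_mul_le (cs.simple i) w
      rw [cs.length_simple] at h1 ⊢
      omega
    rw [ta_n_mul R hk hl, LL_ta R hG (hi.mul hk), H.mul hi hk hlen]
  by_cases hl : cs.length w < cs.length (cs.simple i * w)
  · exact up hk hl
  · have : Fintype (X (sr i)) := Fintype.ofFinite _
    have hi' : (n i)⁻¹ * k = (n i)⁻¹ * k := rfl
    have hk3 : Rp cs R.nsys (cs.simple i * w) ((n i)⁻¹ * k) := by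
      have := hi.inv.mul hk
      rwa [cs.inv_simple] at this
    have e0 : cs.simple i * (cs.simple i * w) = w := by
      rw [← mul_assoc, cs.simple_mul_simple_self, one_mul]
    have hl3 : cs.length (cs.simple i * w) < cs.length (cs.simple i * (cs.simple i * w)) := by
      rw [e0]
      have := cs.length_simple_mul_ne w i
      omega
    have hlen3 : cs.length (cs.simple i * (cs.simple i * w)) = cs.length (cs.simple i) + cs.length (cs.simple i * w) := by
      have h1 := cs.length_mul_le (cs.simple i) (cs.simple i * w)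
      rw [cs.length_simple] at h1 ⊢
      omega
    set k3 : Y := (n i)⁻¹ * k with hk3def
    have ek : k = n i * k3 := by rw [hk3def]; group
    have hz : n i * n i ∈ T := R.sq_mem_T i
    have hzk : Rp cs R.nsys (cs.simple i * w) (n i * n i * k3) := by
      have := (rp_of_mem (cs := cs) (hN := R.nsys) hz).mul hk3
      rwa [one_mul] at this
    have hone : cs.length ((1 : W) * (cs.simple i * w)) = cs.length (1 : W) + cs.length (cs.simple i * w) := by
      rw [one_mul, cs.length_one, zero_add]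
    have h1 : ta cs h X (n i) * ta cs h X k = ta cs h X (n i) * ta cs h X (n i) * ta cs h X k3 := by
      rw [mul_assoc, ta_n_mul R hk3 hl3, ← ek]
    have h2 : S (n i) * S k = S (n i) * S (n i) * S k3 := by
      rw [ek, H.mul hi hk3 hlen3, mul_assoc]
    rw [h1, h2, ta_sq R i, H.quad i, smul_mul_assoc, Finset.sum_mul, map_smul, map_sum, smul_mul_assoc, Finset.sum_mul]
    congr 1
    refine Finset.sum_congr rfl fun x _ => ?_
    split_ifs with hx
    · rw [LL_t R H hG hz, LL_ta R hG hk3]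
    · rw [mul_assoc, mul_assoc, LL_t R H hG (tx_mem R i x), ← ta_t_mul R hz, up hzk hl3,
        H.mul (rp_of_mem (cs := cs) (hN := R.nsys) hz) hk3 hone, mul_assoc, mul_assoc]

/-- one reflection -/
theorem LL_n (hG : GG cs h T X = ⊤) (i : I) (b : Al Y) :
    LL R S (ta cs h X (n i) * b) = S (n i) * LL R S b := by
  induction b using al_induction with
  | hd z =>
    obtain ⟨⟨w, hw⟩, u, hu, u', hu', e⟩ := nf_spec R hG z
    have h1 : ta cs h X (n i) * dl z = ta cs h X (n i) * (eU cs h X * dl (nf R z) * dl u') := by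
      conv_lhs => rw [e]
      rw [dl_mul, dl_mul, ← ta_mul_eU (n i)]
      simp only [mul_assoc]
      rw [← mul_assoc (eU cs h X) (dl u), eU_mul_dl hu]
      congr 1
      rw [← mul_assoc (eU cs h X) (eU cs h X), eU_mul_eU]
    rw [h1, ← mul_assoc, LL_mul_u R hG hu', ← LL_mul_eU R hG]
    have h2 : ta cs h X (n i) * (eU cs h X * dl (nf R z)) * eU cs h X = ta cs h X (n i) * ta cs h X (nf R z) := by
      rw [mul_assoc]; rfl
    rw [h2, LL_n_rp R H hG i hw, LL_dl]
  | ha a b iha ihb => rw [mul_add, map_add, map_add, iha, ihb, mul_add]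
  | hs c a iha => rw [mul_smul_comm, map_smul, map_smul, iha, mul_smul_comm]

/-- all representatives -/
theorem LL_rp_mul (hG : GG cs h T X = ⊤) {w : W} {k : Y} (hk : Rp cs R.nsys w k) (b : Al Y) :
    LL R S (ta cs h X k * b) = S k * LL R S b := by
  induction hn : cs.length w generalizing w k b with
  | zero =>
    have h1 : w = 1 := cs.length_eq_zero_iff.1 hn
    subst h1
    exact LL_t R H hG hk.mem_of_one b
  | succ N ih =>
    obtain ⟨i, hi⟩ := cs.exists_leftDescent_of_ne_one (w := w) (fun h1 => by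
      rw [h1, cs.length_one] at hn
      exact absurd hn (Nat.succ_ne_zero N).symm)
    have hi' := cs.isLeftDescent_iff.1 hi
    have hl1 : cs.length (cs.simple i * w) = N := by omega
    have e0 : cs.simple i * (cs.simple i * w) = w := by
      rw [← mul_assoc, cs.simple_mul_simple_self, one_mul]
    have hk1 : Rp cs R.nsys (cs.simple i * w) ((n i)⁻¹ * k) := by
      have := (rp_simple cs R.nsys i).inv.mul hk
      rwa [cs.inv_simple] at this
    have ek : k = n i * ((n i)⁻¹ * k) := by group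
    have hlen : cs.length (cs.simple i * (cs.simple i * w)) = cs.length (cs.simple i) + cs.length (cs.simple i * w) := by
      rw [e0, cs.length_simple]; omega
    have h1 : ta cs h X k = ta cs h X (n i) * ta cs h X ((n i)⁻¹ * k) := by
      rw [ta_n_mul R hk1 (by rw [e0]; omega), ← ek]
    rw [h1, mul_assoc, LL_n R H hG, ih hk1 b hl1, ← mul_assoc, ← H.mul (rp_simple cs R.nsys i) hk1 hlen, ← ek]

/-- multiplicativity -/
theorem LL_mul (hG : GG cs h T X = ⊤) (a b : Al Y) : LL R S (a * eU cs h X * b) = LL R S a * LL R S b := by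
  induction a using al_induction with
  | hd y =>
    obtain ⟨⟨w, hw⟩, u, hu, u', hu', e⟩ := nf_spec R hG y
    have h1 : dl y * eU cs h X = dl u * (dl (nf R y) * eU cs h X) := by
      conv_lhs => rw [e]
      rw [dl_mul, dl_mul, mul_assoc, dl_mul_eU hu', mul_assoc]
    rw [h1, mul_assoc, LL_u_mul R hG hu, ← LL_eU_mul R hG, ← mul_assoc, ← mul_assoc, LL_dl]
    exact LL_rp_mul R H hG hw b
  | ha a a' iha ihb => rw [add_mul, add_mul, map_add, map_add, iha, ihb, add_mul]
  | hs c a iha => rw [smul_mul_assoc, smul_mul_assoc, map_smul, map_smul, iha, smul_mul_assoc]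

/-- **the representation** -/
theorem exists_L (hG : GG cs h T X = ⊤) : ∃ L : Al Y →ₗ[ℂ] Module.End ℂ E,
    (∀ {w : W} {g : Y}, Rp cs R.nsys w g → L (dl g) = S g) ∧
    (∀ {w : W} {g : Y}, Rp cs R.nsys w g → L (ta cs h X g) = S g) ∧
    (∀ a b, L (a * eU cs h X * b) = L a * L b) ∧
    (∀ u ∈ UU cs h X, ∀ a, L (dl u * a) = L a) ∧ (∀ u ∈ UU cs h X, ∀ a, L (a * dl u) = L a) ∧
    (∀ a, L (eU cs h X * a) = L a) ∧ (∀ a, L (a * eU cs h X) = L a) ∧ L (dl 1) = 1 := by
  refine ⟨LL R S, fun hg => LL_rp R hG hg, fun hg => LL_ta R hG hg, LL_mul R H hG, fun u hu a => LL_u_mul R hG hu a,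
    fun u hu a => LL_mul_u R hG hu a, LL_eU_mul R hG, LL_mul_eU R hG, ?_⟩
  rw [LL_rp R hG (rp_one (cs := cs) (hN := R.nsys)), H.one]

end Cfsg.Agent.H40.OQ
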