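import Cfsg.Agent.H40.OQ.Rep
import Cfsg.Agent.H684.OQ.Whit
import Cfsg.Agent.H684.OQ.Sph

/-!
# S4884, own odd characteristic: the spherical function of a weight vector (helper40)

* `exists_spherical` (C1) : a one dimensional weight space of an `HRep` gives a spherical function;
* `sum_spherical` (C2) : the sum of `φ g φ g⁻¹` over the group.
-/

set_option autoImplicit false
set_option linter.unusedSectionVars false

open Cfsg

namespace Cfsg.Agent.H40.OQ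

open CoxeterSystem Cfsg.Agent.ChevalleyStructure.CoxeterGeom Cfsg.Agent.Tits.Roots Cfsg.Agent.Tits.Core
  Cfsg.Agent.Tits.Exchange Cfsg.Agent.Nodes.Reps Cfsg.Agent.Nodes.BNOf Cfsg.Agent.Nodes.StabComb
  Cfsg.Agent.Nodes.Bruhat Cfsg.Agent.Nodes.OppDec Cfsg.Agent.Nodes.LeviDec
open Cfsg.Agent.H684.OQ

universe u v

variable {I W : Type*} {Y : Type u} [Fintype I] [DecidableEq I] [Group W] [Finite W] [Group Y] [Finite Y]
  {M : CoxeterMatrix I} {cs : CoxeterSystem M W} {A : I → I → ℤ} {h : IsCartan M A} {p : ℕ} {T : Subgroup Y}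
  {n : I → Y} {X : (I → ℤ) → Subgroup Y} (R : RGD cs h p T n X)
  {E : Type v} [AddCommGroup E] [Module ℂ E]

include R

omit R [Finite W] [Finite Y] [Fintype I] [DecidableEq I] in
theorem lam_congr (lam : ↥T →* ℂˣ) {a b : Y} (ha : a ∈ T) (hb : b ∈ T) (e : a = b) : lam ⟨a, ha⟩ = lam ⟨b, hb⟩ := by
  subst e; rfl

/-- `S t S g = S (t g)` -/
theorem HRep.t_mul {S : Y → Module.End ℂ E} (H : HRep R S) {t g : Y} {w : W} (ht : t ∈ T) (hg : Rp cs R.nsys w g) :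
    S (t * g) = S t * S g :=
  H.mul (rp_of_mem (cs := cs) (hN := R.nsys) ht) hg (by rw [one_mul, cs.length_one, zero_add])

/-- `S g S t = S (g t)` -/
theorem HRep.mul_t {S : Y → Module.End ℂ E} (H : HRep R S) {t g : Y} {w : W} (ht : t ∈ T) (hg : Rp cs R.nsys w g) :
    S (g * t) = S g * S t :=
  H.mul hg (rp_of_mem (cs := cs) (hN := R.nsys) ht) (by rw [mul_one, cs.length_one, add_zero])

/-- the weight of `S g v` -/
theorem HRep.weight {S : Y → Module.End ℂ E} (H : HRep R S) {g : Y} {w : W} (hg : Rp cs R.nsys w g) {lam : ↥T →* ℂˣ}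
    {v : E} (h1 : ∀ t (ht : t ∈ T), S t v = ((lam ⟨t, ht⟩ : ℂˣ) : ℂ) • v) {t : Y} (ht : t ∈ T)
    (ht' : g⁻¹ * t * g ∈ T) : S t (S g v) = ((lam ⟨g⁻¹ * t * g, ht'⟩ : ℂˣ) : ℂ) • S g v := by
  have e1 : S t * S g = S g * S (g⁻¹ * t * g) := by
    rw [← HRep.t_mul R H ht hg, ← HRep.mul_t R H ht' hg]
    congr 1
    group
  have e2 : S t (S g v) = (S t * S g) v := rfl
  rw [e2, e1, Module.End.mul_apply, h1 _ ht', map_smul]

theorem inv_conj_mem {g : Y} {w : W} (hg : Rp cs R.nsys w g) {t : Y} (ht : t ∈ T) : g⁻¹ * t * g ∈ T := by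
  have := (Subgroup.mem_normalizer_iff.1 (inv_mem hg.mem_normalizer) t).1 ht
  rwa [inv_inv] at this

/-- **(C1)** -/
theorem exists_spherical (hG : GG cs h T X = ⊤) {S : Y → Module.End ℂ E} (H : HRep R S) [Fintype ↥(RGD.B cs h T X)]
    (lam : ↥T →* ℂˣ) (v : E) (hv : v ≠ 0) (h1 : ∀ t (ht : t ∈ T), S t v = ((lam ⟨t, ht⟩ : ℂˣ) : ℂ) • v)
    (h2 : ∀ w : E, (∀ t (ht : t ∈ T), S t w = ((lam ⟨t, ht⟩ : ℂˣ) : ℂ) • w) → ∃ c : ℂ, w = c • v) :
    ∃ φ : Y → ℂ, Spherical (RGD.B cs h T X) (infl R lam) φ ∧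
      (∀ (w : W) (g : Y), Rp cs R.nsys w g →
        (∀ t (ht : t ∈ T) (ht' : g * t * g⁻¹ ∈ T), lam ⟨g * t * g⁻¹, ht'⟩ = lam ⟨t, ht⟩) → S g v = φ g • v) ∧
      (∀ (w : W) (g : Y), Rp cs R.nsys w g →
        ¬ (∀ t (ht : t ∈ T) (ht' : g * t * g⁻¹ ∈ T), lam ⟨g * t * g⁻¹, ht'⟩ = lam ⟨t, ht⟩) → φ g = 0) := by
  classical
  obtain ⟨L, hLg, -, hLm, hLu, hLu', hLe, hLe', hL1⟩ := exists_L R H hG
  set P : Module.End ℂ E := L (eB R lam) with hP
  have hLt : ∀ t ∈ T, L (dl t) = S t := fun t ht => hLg (rp_of_mem (cs := cs) (hN := R.nsys) ht)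
  -- `S t P = lam t P`
  have hSP : ∀ t (ht : t ∈ T), S t * P = ((lam ⟨t, ht⟩ : ℂˣ) : ℂ) • P := by
    intro t ht
    rw [hP, ← hLt t ht, ← hLm, mul_assoc, eU_mul_eB, t_mul_eB R lam ht, map_smul]
  -- `P S t = lam t P`
  have hPS : ∀ t (ht : t ∈ T), P * S t = ((lam ⟨t, ht⟩ : ℂˣ) : ℂ) • P := by
    intro t ht
    rw [hP, ← hLt t ht, ← hLm, eB_mul_eU, eB_mul_t R lam ht, map_smul]
  -- `P u = u` for `u` of weight `lam`
  have hPv : ∀ u : E, (∀ t (ht : t ∈ T), S t u = ((lam ⟨t, ht⟩ : ℂˣ) : ℂ) • u) → P u = u := by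
    intro u hu
    have hb : ∀ b : ↥(RGD.B cs h T X), (((infl R lam b)⁻¹ : ℂˣ) : ℂ) • (L (dl (b : Y)) u) = u := by
      intro b
      obtain ⟨t, ht, x, hx, e⟩ := R.mem_B.1 b.2
      have e1 : b = ⟨t, RGD.T_le_B ht⟩ * ⟨x, RGD.U_le_B hx⟩ := Subtype.ext e
      have e2 : infl R lam b = lam ⟨t, ht⟩ := by
        rw [e1, map_mul, infl_T R lam ht, infl_U R lam hx, mul_one]
      rw [e2, e, dl_mul, hLu' x hx, hLt t ht, hu t ht, smul_smul, Units.inv_mul, one_smul]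
    rw [hP]
    unfold eB
    rw [av_def, map_smul, map_sum, LinearMap.smul_apply, LinearMap.sum_apply]
    have hb' : ∀ b : ↥(RGD.B cs h T X), (L ((((infl R lam b)⁻¹ : ℂˣ) : ℂ) • dl (b : Y))) u = u := by
      intro b
      rw [map_smul, LinearMap.smul_apply, hb]
    rw [Finset.sum_congr rfl fun b _ => hb' b, Finset.sum_const, Finset.card_univ, ← Nat.card_eq_fintype_card,
      ← Nat.cast_smul_eq_nsmul ℂ, smul_smul, inv_mul_cancel₀ (card_ne _), one_smul]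
  -- the function
  have hex : ∀ y : Y, ∃ c : ℂ, P (L (dl y) v) = c • v := fun y => h2 _ fun t ht => by
    have := congrArg (fun f : Module.End ℂ E => f (L (dl y) v)) (hSP t ht)
    exact this
  choose φ hφ using hex
  have hinj : ∀ {a b : ℂ}, a • v = b • v → a = b := fun {a b} e => smul_left_injective ℂ hv e
  refine ⟨φ, ⟨?_, ?_⟩, ?_, ?_⟩
  · apply hinj
    rw [← hφ, hL1, Module.End.one_apply, hPv v h1, one_smul]
  · intro x y
    apply hinj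
    have e1 : L (dl x * eB R lam * dl y) = L (dl x) * P * L (dl y) := by
      have e2 : dl x * eB R lam * dl y = dl x * eU cs h X * (eB R lam * eU cs h X * dl y) := by
        rw [← mul_assoc, ← mul_assoc, mul_assoc (dl x) (eU cs h X), eU_mul_eB, mul_assoc (dl x) (eB R lam) (eU cs h X),
          eB_mul_eU]
      rw [e2, hLm, hLm, mul_assoc]
    have e3 : (Nat.card ↥(RGD.B cs h T X) : ℂ) • (P (L (dl x * eB R lam * dl y) v)) =
        (∑ b : ↥(RGD.B cs h T X), (((infl R lam b)⁻¹ : ℂˣ) : ℂ) * φ (x * b * y)) • v := by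
      unfold eB
      rw [av_def, mul_smul_comm, smul_mul_assoc, map_smul, LinearMap.smul_apply, map_smul, smul_smul,
        mul_inv_cancel₀ (card_ne _), one_smul, Finset.mul_sum, Finset.sum_mul, map_sum, LinearMap.sum_apply, map_sum,
        Finset.sum_smul]
      refine Finset.sum_congr rfl fun b _ => ?_
      rw [mul_smul_comm, smul_mul_assoc, map_smul, LinearMap.smul_apply, map_smul, ← dl_mul, ← dl_mul, hφ, smul_smul]
    rw [← e3, e1]
    have e4 : P ((L (dl x) * P * L (dl y)) v) = (φ x * φ y) • v := by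
      rw [Module.End.mul_apply, Module.End.mul_apply, hφ y, map_smul, map_smul, hφ x, smul_smul, mul_comm]
    rw [e4, smul_smul]
  · intro w g hg hinv
    have hw : ∀ t (ht : t ∈ T), S t (S g v) = ((lam ⟨t, ht⟩ : ℂˣ) : ℂ) • S g v := by
      intro t ht
      have ht' := inv_conj_mem R hg ht
      rw [HRep.weight R H hg h1 ht ht']
      have e : g * (g⁻¹ * t * g) * g⁻¹ = t := by group
      have h3 := hinv _ ht' (by rw [e]; exact ht)
      rw [← h3, lam_congr lam _ ht e]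
    obtain ⟨c, hc⟩ := h2 _ hw
    have h4 := hφ g
    rw [hLg hg, hPv _ hw, hc] at h4
    rw [hc, hinj h4]
  · intro w g hg hninv
    push Not at hninv
    obtain ⟨t, ht, ht', hne⟩ := hninv
    have h3 : P (S (g * t * g⁻¹) (S g v)) = ((lam ⟨g * t * g⁻¹, ht'⟩ : ℂˣ) : ℂ) • P (S g v) := by
      have := congrArg (fun f : Module.End ℂ E => f (S g v)) (hPS _ ht')
      exact this
    have e : g⁻¹ * (g * t * g⁻¹) * g = t := by group
    have h4 : S (g * t * g⁻¹) (S g v) = ((lam ⟨t, ht⟩ : ℂˣ) : ℂ) • S g v := by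
      rw [HRep.weight R H hg h1 ht' (by rw [e]; exact ht), lam_congr lam _ ht e]
    have h5 := hφ g
    rw [hLg hg] at h5
    rw [h4, map_smul, h5, smul_smul, smul_smul] at h3
    have h6 := hinj h3
    have h7 : (((lam ⟨t, ht⟩ : ℂˣ) : ℂ) - ((lam ⟨g * t * g⁻¹, ht'⟩ : ℂˣ) : ℂ)) * φ g = 0 := by
      rw [sub_mul, h6, sub_self]
    rcases mul_eq_zero.1 h7 with h8 | h8
    · exact absurd (Units.ext (sub_eq_zero.1 h8).symm) hne
    · exact h8

/-- **(C2)** -/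
theorem sum_spherical [Fintype Y] [Fintype W] [Fintype ↥(RGD.B cs h T X)] (hG : GG cs h T X = ⊤) {lam : ↥T →* ℂˣ}
    {φ : Y → ℂ} (hφ : Spherical (RGD.B cs h T X) (infl R lam) φ) (r : W → Y) (hr : ∀ w, Rp cs R.nsys w (r w)) :
    ∑ g : Y, φ g * φ g⁻¹ = (Nat.card ↥(RGD.B cs h T X) : ℂ) * ∑ w : W, qc R w * (φ (r w) * φ (r w)⁻¹) := by
  classical
  have hc : ∀ y : Y, ∃ w, Cell R.nsys cs h X w y := fun y => (mem_GG R).1 (hG ▸ Subgroup.mem_top y)
  choose c hc using hc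
  have hcell : ∀ (w : W) (y : Y), Cell R.nsys cs h X w y ↔ c y = w :=
    fun w y => ⟨fun hy => Cell.unique R (hc y) hy, fun e => e ▸ hc y⟩
  -- constancy on the cells
  have hconst : ∀ (w : W) (y : Y), Cell R.nsys cs h X w y → φ y * φ y⁻¹ = φ (r w) * φ (r w)⁻¹ := by
    rintro w y ⟨b₁, hb₁, k, hk, b₂, hb₂, rfl⟩
    have ht : (r w)⁻¹ * k ∈ T := (hr w).unique hk
    have hb : (r w)⁻¹ * k * b₂ ∈ RGD.B cs h T X := mul_mem (RGD.T_le_B ht) hb₂
    have e : b₁ * k * b₂ = b₁ * (r w * ((r w)⁻¹ * k * b₂)) := by group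
    have e' : (b₁ * k * b₂)⁻¹ = ((r w)⁻¹ * k * b₂)⁻¹ * ((r w)⁻¹ * b₁⁻¹) := by group
    have h1 : φ (b₁ * (r w * ((r w)⁻¹ * k * b₂))) = (infl R lam ⟨b₁, hb₁⟩ : ℂ) *
        ((infl R lam ⟨_, hb⟩ : ℂ) * φ (r w)) := by
      rw [hφ.left ⟨b₁, hb₁⟩, hφ.right ⟨_, hb⟩]
    have h2 : φ (((r w)⁻¹ * k * b₂)⁻¹ * ((r w)⁻¹ * b₁⁻¹)) = (((infl R lam ⟨_, hb⟩)⁻¹ : ℂˣ) : ℂ) *
        ((((infl R lam ⟨b₁, hb₁⟩)⁻¹ : ℂˣ) : ℂ) * φ (r w)⁻¹) := by
      have h3 := hφ.left (⟨_, hb⟩⁻¹ : ↥(RGD.B cs h T X)) ((r w)⁻¹ * b₁⁻¹)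
      have h4 := hφ.right (⟨b₁, hb₁⟩⁻¹ : ↥(RGD.B cs h T X)) (r w)⁻¹
      rw [Subgroup.coe_inv, map_inv] at h3 h4
      exact h3.trans (by rw [h4])
    rw [e', e, h1, h2]
    have m1 : (infl R lam ⟨b₁, hb₁⟩ : ℂ) * (((infl R lam ⟨b₁, hb₁⟩)⁻¹ : ℂˣ) : ℂ) = 1 := Units.mul_inv _
    have m2 : (infl R lam ⟨_, hb⟩ : ℂ) * (((infl R lam ⟨_, hb⟩)⁻¹ : ℂˣ) : ℂ) = 1 := Units.mul_inv _
    linear_combination (φ (r w) * φ (r w)⁻¹ * ((infl R lam ⟨_, hb⟩ : ℂ) * (((infl R lam ⟨_, hb⟩)⁻¹ : ℂˣ) : ℂ))) * m1 +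
      (φ (r w) * φ (r w)⁻¹) * m2
  rw [← Finset.sum_fiberwise (s := Finset.univ) (g := c), Finset.mul_sum]
  refine Finset.sum_congr rfl fun w _ => ?_
  have h1 : ∀ g ∈ Finset.univ.filter (fun g : Y => c g = w), φ g * φ g⁻¹ = φ (r w) * φ (r w)⁻¹ := fun g hg =>
    hconst w g ((hcell w g).2 (Finset.mem_filter.1 hg).2)
  rw [Finset.sum_congr rfl h1, Finset.sum_const, nsmul_eq_mul]
  have h2 : ((Finset.univ.filter (fun g : Y => c g = w)).card : ℂ) = (Nat.card {g : Y // Cell R.nsys cs h X w g} : ℂ) := by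
    congr 1
    rw [Nat.card_eq_fintype_card, Fintype.card_subtype]
    congr 1
    ext g
    simp only [Finset.mem_filter, Finset.mem_univ, true_and]
    exact (hcell w g).symm
  rw [h2]
  unfold qc
  have hB : (Nat.card ↥(RGD.B cs h T X) : ℂ) ≠ 0 := card_ne _
  field_simp

end Cfsg.Agent.H40.OQ
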